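import Cfsg.Agent.H413.L16.Nel

/-!
# S5917 (`L₃(4)` in `E₈(2)`): the tables of the frame (helper201)

Roots: index `s < 240` of `chevE8`, `239 - s` is the negative (numbering of `H413.L16`).

* `V1 V2` : the values on the simple roots of the two generators of `E0 = 3²`; the weight of a root is
  `(c₀, c₁)`, the first two letters of the word `(c₀, c₁, c₀ + c₁, c₀ - c₁)` of the tetracode; weight zero = `A₂⁴`;
* `ia k i j` : the root `e_i - e_j` of the component `k`; `it n i j l` : the root of the `n`-th word with the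
  indices `i j l` (in the order of the positions of the non-zero letters);
* `qi qj` : the permutations of the roots by the generators of `Q₈` (signed permutations of the four components),
  `qi² = qj² = (s ↦ 239 - s)`.
-/

set_option autoImplicit false
set_option maxRecDepth 100000

namespace Cfsg.Agent.H201.L34

open Cfsg Cfsg.Lie
open Cfsg.Agent.H413.L16 (tg)
open Cfsg.Agent.ChevalleyStructure.RootVec (rt)

/-- the first generator of `E0` -/
def V1 : Fin 8 → ZMod 3 := ![0, 0, 0, 0, 0, 0, 1, 0]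

/-- the second generator of `E0` -/
def V2 : Fin 8 → ZMod 3 := ![0, 0, 0, 1, 0, 0, 2, 0]

/-- the weight of a root for the first generator -/
def w1 (s : ℕ) : ZMod 3 := ∑ i : Fin 8, V1 i * (rt chevE8 s i : ℤ)

/-- the weight of a root for the second generator -/
def w2 (s : ℕ) : ZMod 3 := ∑ i : Fin 8, V2 i * (rt chevE8 s i : ℤ)

/-- the table of `3 c₀ + c₁` -/
def CW : List ℕ :=
  [0, 0, 5, 5, 5, 3, 3, 3, 3, 4, 4, 4, 6, 6, 3, 3, 4, 4, 4, 6, 6, 4, 4, 4, 6, 6, 5, 5, 7, 7, 5, 7, 7, 7, 7, 0, 5, 5,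
  7, 7, 5, 7, 7, 7, 7, 0, 3, 8, 8, 8, 8, 1, 8, 8, 1, 1, 3, 8, 8, 8, 8, 1, 8, 8, 1, 1, 6, 6, 2, 2, 2, 6, 6, 2, 2, 2,
  0, 0, 3, 8, 8, 8, 8, 1, 8, 8, 1, 1, 6, 6, 2, 2, 2, 6, 6, 2, 2, 2, 0, 6, 6, 2, 2, 2, 0, 6, 6, 2, 2, 2, 7, 7, 0, 0,
  7, 7, 0, 7, 7, 0, 0, 5, 5, 0, 5, 5, 0, 0, 5, 5, 1, 1, 1, 3, 3, 0, 1, 1, 1, 3, 3, 0, 1, 1, 1, 3, 3, 1, 1, 1, 3, 3,
  2, 2, 4, 4, 2, 4, 4, 4, 4, 6, 0, 0, 1, 1, 1, 3, 3, 1, 1, 1, 3, 3, 2, 2, 4, 4, 2, 4, 4, 4, 4, 6, 2, 2, 4, 4, 2, 4,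
  4, 4, 4, 6, 0, 5, 5, 5, 5, 7, 5, 5, 7, 7, 0, 5, 5, 5, 5, 7, 5, 5, 7, 7, 3, 3, 8, 8, 8, 3, 3, 8, 8, 8, 6, 6, 3, 3,
  8, 8, 8, 6, 6, 6, 6, 7, 7, 7, 0, 0]

/-- the permutation `i` -/
def QI : List ℕ :=
  [112, 113, 155, 154, 9, 136, 147, 130, 142, 235, 111, 110, 152, 153, 61, 51, 199, 29, 28, 68, 69, 209, 39, 38, 73,
  74, 187, 186, 221, 222, 21, 58, 60, 57, 59, 77, 177, 176, 216, 217, 16, 48, 50, 47, 49, 76, 164, 196, 198, 195,
  197, 224, 26, 27, 67, 66, 169, 206, 208, 205, 207, 225, 36, 37, 72, 71, 184, 185, 220, 219, 56, 174, 175, 215, 214,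
  46, 194, 204, 83, 122, 125, 121, 124, 161, 2, 3, 13, 12, 95, 96, 140, 139, 6, 107, 108, 151, 150, 8, 135, 90, 91,
  134, 133, 5, 98, 101, 102, 146, 145, 7, 228, 229, 239, 238, 80, 82, 120, 79, 81, 116, 123, 158, 160, 119, 157, 159,
  1, 0, 10, 11, 232, 94, 93, 137, 138, 141, 234, 106, 105, 148, 149, 104, 231, 89, 88, 131, 132, 233, 100, 99, 143,
  144, 227, 226, 236, 237, 78, 115, 118, 114, 117, 156, 35, 45, 193, 25, 24, 64, 65, 183, 20, 19, 54, 55, 168, 167,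
  202, 203, 14, 32, 34, 31, 33, 70, 173, 172, 212, 213, 15, 42, 44, 41, 43, 75, 163, 190, 192, 189, 191, 223, 22, 23,
  63, 62, 162, 180, 182, 179, 181, 218, 17, 18, 53, 52, 165, 166, 201, 200, 30, 170, 171, 211, 210, 40, 188, 178, 86,
  87, 129, 128, 4, 97, 109, 92, 103, 230, 85, 84, 126, 127]

/-- the permutation `j` -/
def QJ : List ℕ :=
  [77, 135, 65, 138, 149, 63, 223, 60, 222, 140, 151, 220, 160, 192, 62, 59, 6, 8, 56, 11, 23, 139, 150, 219, 159,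
  191, 64, 137, 70, 97, 148, 75, 109, 156, 188, 127, 61, 136, 69, 96, 147, 74, 108, 153, 185, 123, 58, 13, 25, 67,
  94, 34, 72, 106, 44, 118, 221, 161, 193, 224, 232, 203, 225, 234, 213, 237, 158, 190, 129, 201, 211, 155, 187, 125,
  198, 208, 120, 239, 57, 12, 24, 66, 93, 33, 71, 105, 43, 117, 10, 22, 4, 30, 40, 157, 189, 128, 200, 210, 126, 9,
  21, 3, 27, 37, 1, 154, 186, 124, 197, 207, 68, 95, 35, 98, 73, 107, 45, 152, 184, 76, 163, 55, 87, 194, 132, 166,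
  141, 204, 144, 171, 32, 42, 115, 53, 85, 238, 202, 212, 236, 218, 230, 113, 29, 39, 111, 50, 82, 199, 209, 235,
  217, 229, 122, 196, 134, 168, 206, 146, 173, 215, 227, 182, 0, 119, 31, 41, 114, 52, 84, 28, 38, 110, 49, 81, 2,
  26, 5, 14, 36, 7, 15, 46, 78, 18, 121, 195, 133, 167, 205, 145, 172, 214, 226, 181, 116, 54, 86, 131, 165, 92, 143,
  170, 103, 178, 112, 51, 83, 130, 164, 91, 142, 169, 102, 175, 48, 80, 20, 89, 100, 216, 228, 183, 231, 233, 180,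
  177, 47, 79, 19, 88, 99, 17, 179, 16, 176, 90, 101, 174, 104, 162]

/-- the roots of the four components `A₂` : entry `9 k + 3 i + j` -/
def AT : List ℕ :=
  [240, 0, 1, 239, 240, 120, 238, 119, 240, 240, 112, 113, 127, 240, 123, 126, 116, 240, 240, 77, 135, 162, 240, 163,
  104, 76, 240, 240, 35, 98, 204, 240, 194, 141, 45, 240]

/-- the roots of the eight tensor spaces : entry `27 n + 9 i + 3 j + l`, words in the order
`(0,1), (0,2), (1,0), (1,1), (1,2), (2,0), (2,1), (2,2)` of the first two letters -/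
def TB : List ℕ :=
  [147, 61, 136, 169, 83, 164, 142, 51, 130, 149, 65, 138, 171, 87, 166, 144, 55, 132, 148, 64, 137, 170, 86, 165,
  143, 54, 131, 92, 178, 103, 70, 156, 75, 97, 188, 109, 90, 174, 101, 68, 152, 73, 95, 184, 107, 91, 175, 102, 69,
  153, 74, 96, 185, 108, 6, 56, 8, 14, 78, 15, 5, 46, 7, 140, 220, 151, 168, 227, 173, 134, 215, 146, 139, 219, 150,
  167, 226, 172, 133, 214, 145, 16, 9, 21, 18, 11, 23, 17, 10, 22, 177, 155, 187, 182, 160, 192, 180, 158, 190, 176,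
  154, 186, 181, 159, 191, 179, 157, 189, 40, 4, 30, 36, 2, 26, 37, 3, 27, 211, 129, 201, 206, 122, 196, 208, 125,
  198, 210, 128, 200, 205, 121, 195, 207, 124, 197, 233, 183, 231, 225, 161, 224, 234, 193, 232, 99, 19, 88, 71, 12,
  66, 105, 24, 93, 100, 20, 89, 72, 13, 67, 106, 25, 94, 199, 235, 209, 203, 237, 213, 202, 236, 212, 28, 110, 38,
  33, 117, 43, 31, 114, 41, 29, 111, 39, 34, 118, 44, 32, 115, 42, 223, 230, 218, 221, 228, 216, 222, 229, 217, 62,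
  84, 52, 57, 79, 47, 59, 81, 49, 63, 85, 53, 58, 80, 48, 60, 82, 50]

/-- `3 c₀ + c₁` -/
def cw (s : ℕ) : ℕ := CW.getD s 9

/-- the permutation `i` -/
def qi (s : ℕ) : ℕ := QI.getD s 240

/-- the permutation `j` -/
def qj (s : ℕ) : ℕ := QJ.getD s 240

/-- the permutation `z` -/
def qz (s : ℕ) : ℕ := if s < 240 then 239 - s else 240

/-- the root `e_i - e_j` of the component `k` -/
def ia (k i j : ℕ) : ℕ := AT.getD (9 * k + 3 * i + j) 240

/-- the root of the `n`-th word with the indices `i j l` -/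
def it (n i j l : ℕ) : ℕ := TB.getD (27 * n + 9 * i + 3 * j + l) 240

theorem cw_tab : ((List.range 240).all fun s => decide (w1 s = (cw s / 3 : ℕ) ∧ w2 s = (cw s % 3 : ℕ) ∧ cw s < 9)) = true := by
  decide +kernel

theorem q_tab : ((List.range 240).all fun s => decide (qi (qi s) = 239 - s ∧ qj (qj s) = 239 - s ∧ qi s < 240 ∧
    qj s < 240 ∧ qi (239 - s) = 239 - qi s ∧ qj (239 - s) = 239 - qj s ∧ qi (qj s) = 239 - qj (qi s))) = true := by
  decide +kernel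

/-- the action on the words : `i (c₀, c₁) = (-c₁, c₀)`, `j` -/
theorem q_cw : ((List.range 240).all fun s => decide (w1 (qi s) = -w2 s ∧ w2 (qi s) = w1 s ∧
    w1 (qj s) = -(w1 s + w2 s) ∧ w2 (qj s) = -(w1 s - w2 s))) = true := by
  decide +kernel

end Cfsg.Agent.H201.L34
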