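import Cfsg.Agent.H413.L16.Frame
import Cfsg.Agent.H201.L34.Tab

/-!
# S5917 (`L₃(4)` in `E₈(2)`): the operators of the frame (helper201)

* `gi gj gz` : elements of `chevE8.group KK` permuting the root vectors by `qi`, `qj`, `s ↦ 239 - s`; they
  generate `Q₈` (`gi² = gj² = gz`, `gz² = 1`, `gi gj = gz gj gi`) and are fixed by the Frobenius map `phi`;
* `good_gi`, `good_gj`, `good_gz` : the elements of the Weyl group;
* `Fz` : `v ↦ aK gz (fr v)`, the Frobenius map in frame coordinates (`frobz`).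
* `E0 z t1 t2` : the torus elements with the values `V1`, `V2`; `aK_t1`, `aK_t2` : the weights.
-/

set_option autoImplicit false
set_option linter.unusedSectionVars false
set_option maxRecDepth 100000

namespace Cfsg.Agent.H201.L34

open CoxeterSystem Cfsg Cfsg.Lie Cfsg.Lie.ChevalleyDatum
open Cfsg.Agent.ChevalleyStructure Cfsg.Agent.ChevalleyStructure.Elts Cfsg.Agent.ChevalleyStructure.CoxeterGeom
  Cfsg.Agent.ChevalleyStructure.CoxeterGeomTypes Cfsg.Agent.ChevalleyStructure.NPerm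
open Cfsg.Agent.ChevalleyStructure.LieAbs Cfsg.Agent.ChevalleyStructure.LieAut
open Cfsg.Agent.ChevalleyStructure.Columns (car cor)
open Cfsg.Agent.ChevalleyStructure.RootVec (rt)
open Cfsg.Agent.Tits.Roots Cfsg.Agent.Tits.Core Cfsg.Agent.Nodes Cfsg.Agent.Nodes.Reps Cfsg.Agent.Nodes.BNOf
  Cfsg.Agent.Nodes.RGDChev Cfsg.Agent.Nodes.Bruhat Cfsg.Agent.Nodes.SubComb Cfsg.Agent.Nodes.Coroot
open Cfsg.Agent.KFacts.RgdField Cfsg.Agent.KFacts.RgdChevCoord Cfsg.Agent.BpExc.TorCent Cfsg.Agent.BpExc.TorChev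
open Cfsg.Agent.GpExc.Field Cfsg.Agent.BpExc.Tow Cfsg.Agent.BpExc.TowChev Cfsg.Agent.BpExc.Fr
  Cfsg.Agent.BpExc.LangFr Cfsg.Agent.LangThm Cfsg.Agent.BpExc Cfsg.Agent.H129.TorusMain Cfsg.Agent.H129.TorusUntw
open Cfsg.Agent.H129.TorusChar (cX cX_pow cX_one cX_inj isMC_cX cX_root cX_rp cX_mul ch_sigma exists_cX)
open Cfsg.Agent.H720.TorusReal Cfsg.Agent.H897
open Cfsg.Agent.H897.T5Frame (bc rc bf_eq)
open Cfsg.Agent.H897.T5UntwRow (A8)
open Cfsg.Agent.BpExc.RowsUntw (e8T)
open Cfsg.Agent.H939.L64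
open Cfsg.Agent.H413.L64
open Cfsg.Agent.H413.L16
open Cfsg.Agent.H876.L64

/-! ### products of reflection elements -/

/-- the product of the reflection elements of a word -/
noncomputable def gw (l : List ℕ) : ↥(chevE8.group KK) := (l.map nn).prod

/-- the word of `i` -/
def LI : List ℕ := [235, 130, 121, 147, 135, 124, 156, 160]

/-- the word of `j` -/
def LJ : List ℕ := [193, 164, 122, 170, 221, 135, 126, 227]

theorem aK_gw (l : List ℕ) (hl : ∀ r ∈ l, r < 240 ∧ okN r = true) {s : ℕ} (hs : s < 240) :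
    aK (gw l) (er s) = er (l.foldr rf s) ∧ l.foldr rf s < 240 := by
  induction l with
  | nil => exact ⟨aK_one _, hs⟩
  | cons r l ih =>
    obtain ⟨h1, h2⟩ := ih fun r hr => hl r (List.mem_cons_of_mem _ hr)
    obtain ⟨h3, h4⟩ := hl r List.mem_cons_self
    obtain ⟨h5, h6⟩ := aK_nn h3 h4 h2
    refine ⟨?_, h6⟩
    unfold gw at h1 ⊢
    rw [List.map_cons, List.prod_cons, aK_mul, h1, h5]
    rfl

theorem good_gw (l : List ℕ) (hl : ∀ r ∈ l, r < 240) :
    ∃ w, Good w (gw l) ∧ ∀ x, act w x = (l.map fun r => vec chevE8 8 r).foldr (rc A8) x := by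
  induction l with
  | nil => exact ⟨1, good_one, fun x => by
      show rep cs8 e8T.isCartan 1 x = x
      rw [map_one]
      rfl⟩
  | cons r l ih =>
    obtain ⟨w, h1, h2⟩ := ih fun r hr => hl r (List.mem_cons_of_mem _ hr)
    obtain ⟨v, h3, h4⟩ := good_nn (hl r List.mem_cons_self)
    refine ⟨v * w, ?_, fun x => ?_⟩
    · have : gw (r :: l) = nn r * gw l := by
        unfold gw
        rw [List.map_cons, List.prod_cons]
      rw [this]
      exact h3.mul h1
    · have hm : act (v * w) x = act v (act w x) := rep_mul_apply _ _ _ _ _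
      rw [hm, h2, h4]
      rfl

theorem okLI : (LI.all fun r => decide (r < 240) && okN r) = true := by decide +kernel

theorem okLJ : (LJ.all fun r => decide (r < 240) && okN r) = true := by decide +kernel

theorem ok_of {l : List ℕ} (h : (l.all fun r => decide (r < 240) && okN r) = true) : ∀ r ∈ l, r < 240 ∧ okN r = true := by
  intro r hr
  have h1 := List.all_eq_true.1 h r hr
  rw [Bool.and_eq_true, decide_eq_true_eq] at h1
  exact h1

theorem foldLI : ((List.range 240).all fun s => decide (LI.foldr rf s = qi s)) = true := by decide +kernel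

theorem foldLJ : ((List.range 240).all fun s => decide (LJ.foldr rf s = qj s)) = true := by decide +kernel

/-- the element `i` -/
noncomputable def gi : ↥(chevE8.group KK) := gw LI

/-- the element `j` -/
noncomputable def gj : ↥(chevE8.group KK) := gw LJ

/-- the element `z` -/
noncomputable def gz : ↥(chevE8.group KK) := gi * gi

/-! ### the permutations -/

theorem q_spec {s : ℕ} (hs : s < 240) : qi (qi s) = 239 - s ∧ qj (qj s) = 239 - s ∧ qi s < 240 ∧
    qj s < 240 ∧ qi (239 - s) = 239 - qi s ∧ qj (239 - s) = 239 - qj s ∧ qi (qj s) = 239 - qj (qi s) :=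
  of_decide_eq_true (List.all_eq_true.1 q_tab s (List.mem_range.2 hs))

theorem qi_lt {s : ℕ} (hs : s < 240) : qi s < 240 := (q_spec hs).2.2.1

theorem qj_lt {s : ℕ} (hs : s < 240) : qj s < 240 := (q_spec hs).2.2.2.1

theorem qi_neg {s : ℕ} (hs : s < 240) : qi (239 - s) = 239 - qi s := (q_spec hs).2.2.2.2.1

theorem qj_neg {s : ℕ} (hs : s < 240) : qj (239 - s) = 239 - qj s := (q_spec hs).2.2.2.2.2.1

theorem qi_qi {s : ℕ} (hs : s < 240) : qi (qi s) = 239 - s := (q_spec hs).1

theorem qj_qj {s : ℕ} (hs : s < 240) : qj (qj s) = 239 - s := (q_spec hs).2.1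

theorem qi_qj {s : ℕ} (hs : s < 240) : qi (qj s) = 239 - qj (qi s) := (q_spec hs).2.2.2.2.2.2

/-- **the action of `i`** -/
theorem aK_gi {s : ℕ} (hs : s < 240) : aK gi (er s) = er (qi s) := by
  rw [← of_decide_eq_true (List.all_eq_true.1 foldLI s (List.mem_range.2 hs))]
  exact (aK_gw LI (ok_of okLI) hs).1

/-- **the action of `j`** -/
theorem aK_gj {s : ℕ} (hs : s < 240) : aK gj (er s) = er (qj s) := by
  rw [← of_decide_eq_true (List.all_eq_true.1 foldLJ s (List.mem_range.2 hs))]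
  exact (aK_gw LJ (ok_of okLJ) hs).1

/-- **the action of `z`** -/
theorem aK_gz {s : ℕ} (hs : s < 240) : aK gz (er s) = er (239 - s) := by
  unfold gz
  rw [aK_mul, aK_gi hs, aK_gi (qi_lt hs), qi_qi hs]

theorem aK_gi_hr {s : ℕ} (hs : s < 240) : aK gi (hr s) = hr (qi s) :=
  aK_hr hs (qi_lt hs) (aK_gi hs) (by rw [aK_gi (by omega), qi_neg hs])

theorem aK_gj_hr {s : ℕ} (hs : s < 240) : aK gj (hr s) = hr (qj s) :=
  aK_hr hs (qj_lt hs) (aK_gj hs) (by rw [aK_gj (by omega), qj_neg hs])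

theorem aK_gz_hr {s : ℕ} (hs : s < 240) : aK gz (hr s) = hr s := by
  rw [← hr_neg hs]
  have h := aK_hr (g := gz) (a := 239 - s) (b := s) (by omega) hs
    (by rw [aK_gz (by omega)]; congr 1; omega) (by
      have e : 239 - (239 - s) = s := by omega
      rw [e, aK_gz hs])
  rw [h, hr_neg hs]

/-! ### the group `Q₈` -/

theorem gi_gi : gi * gi = gz := rfl

theorem gj_gj : gj * gj = gz := by
  apply eq_of_er
  intro s hs
  rw [aK_mul, aK_gj hs, aK_gj (qj_lt hs), qj_qj hs, aK_gz hs]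

theorem gz_gz : gz * gz = 1 := by
  apply eq_of_er
  intro s hs
  rw [aK_mul, aK_one, aK_gz hs, aK_gz (by omega)]
  congr 1
  omega

theorem gi_gj : gi * gj = gz * (gj * gi) := by
  apply eq_of_er
  intro s hs
  rw [aK_mul, aK_mul, aK_mul, aK_gj hs, aK_gi hs, aK_gi (qj_lt hs), aK_gj (qi_lt hs), aK_gz (qj_lt (qi_lt hs)), qi_qj hs]

theorem gz_gi : gz * gi = gi * gz := by
  rw [← gi_gi, mul_assoc]

theorem gz_gj : gz * gj = gj * gz := by
  rw [← gj_gj, mul_assoc]

/-! ### the Weyl group -/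

theorem good_gi : ∃ w, Good w gi ∧ ∀ x, act w x = (LI.map fun r => vec chevE8 8 r).foldr (rc A8) x :=
  good_gw LI fun r hr => (ok_of okLI r hr).1

theorem good_gj : ∃ w, Good w gj ∧ ∀ x, act w x = (LJ.map fun r => vec chevE8 8 r).foldr (rc A8) x :=
  good_gw LJ fun r hr => (ok_of okLJ r hr).1

theorem fold_sq : ∀ i j : Fin 8, ((LI ++ LI).map fun r => vec chevE8 8 r).foldr (rc A8) (fun k => if k = i then 1 else 0) j =
    - (fun k => if k = i then (1 : ℤ) else 0) j := by decide +kernel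

theorem phi_gi : phi chevE8 KK 2 1 gi = gi := good_gi.choose_spec.1.fix

theorem phi_gj : phi chevE8 KK 2 1 gj = gj := good_gj.choose_spec.1.fix

theorem phi_gz : phi chevE8 KK 2 1 gz = gz := by
  unfold gz
  rw [map_mul, phi_gi]

/-! ### the Cartan subalgebra -/

/-- `z` acts trivially on the Cartan subalgebra -/
theorem aK_gz_hv (c : Fin chevE8.rank → KK) : aK gz (hv c) = hv c := by
  have h1 : hv c = ∑ k, c k • hr (six (k.cast rk8)) := by
    funext a
    rw [Finset.sum_apply]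
    simp_rw [hr_six]
    rcases a with a | a
    · show c a = ∑ k, (c k • hv (Pi.single k 1)) (Sum.inl a)
      rw [Finset.sum_eq_single a]
      · show c a = c a * (Pi.single a (1 : KK) : Fin chevE8.rank → KK) a
        rw [Pi.single_eq_same, mul_one]
      · intro b _ hb
        show c b * (Pi.single b (1 : KK) : Fin chevE8.rank → KK) a = 0
        rw [Pi.single_eq_of_ne hb.symm, mul_zero]
      · intro h; exact absurd (Finset.mem_univ _) h
    · show (0 : KK) = ∑ k, (c k • hv (Pi.single k 1)) (Sum.inr a)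
      rw [Finset.sum_eq_zero]
      intro k _
      exact mul_zero _
  have h2 : aK gz (∑ k, c k • hr (six (k.cast rk8))) = ∑ k, c k • hr (six (k.cast rk8)) := by
    have h3 : lin gz (∑ k, c k • hr (six (k.cast rk8))) = ∑ k, c k • hr (six (k.cast rk8)) := by
      rw [map_sum]
      refine Finset.sum_congr rfl fun k _ => ?_
      rw [map_smul, lin_apply, aK_gz_hr (six_lt _)]
    exact h3
  rw [h1, h2]

/-! ### the Frobenius map in frame coordinates -/

/-- the Frobenius map in frame coordinates -/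
noncomputable def Fz (v : LK) : LK := aK gz (fr v)

theorem fr_add (u v : LK) : fr (u + v) = fr u + fr v := by
  have hch := charKK
  funext i
  exact map_add (frobenius KK 2) (u i) (v i)

theorem fr_smul (c : KK) (u : LK) : fr (c • u) = c ^ 2 • fr u := by
  funext i
  exact mul_pow _ _ _

theorem Fz_add (u v : LK) : Fz (u + v) = Fz u + Fz v := by
  unfold Fz
  rw [fr_add, aK_add]

theorem Fz_smul (c : KK) (u : LK) : Fz (c • u) = c ^ 2 • Fz u := by
  unfold Fz
  rw [fr_smul, aK_smul]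

theorem Fz_br (u v : LK) : Fz (brK u v) = brK (Fz u) (Fz v) := by
  unfold Fz
  rw [fr_br, aK_brK]

theorem Fz_er {s : ℕ} (hs : s < 240) : Fz (er s) = er (239 - s) := by
  unfold Fz
  rw [fr_er, aK_gz hs]

theorem fr_hv (c : Fin chevE8.rank → KK) : fr (hv c) = hv fun i => c i ^ 2 := by
  funext i
  unfold fr hv
  rcases i with i | i
  · rfl
  · show (0 : KK) ^ 2 = 0
    rw [zero_pow two_ne_zero]

theorem Fz_hv (c : Fin chevE8.rank → KK) : Fz (hv c) = hv fun i => c i ^ 2 := by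
  unfold Fz
  rw [fr_hv, aK_gz_hv]

theorem Fz_hr (s : ℕ) : Fz (hr s) = hr s := by
  unfold hr
  rw [Fz_hv]
  congr 1
  funext i
  rcases Int.emod_two_eq_zero_or_one (cor chevE8 s i) with h | h
  · rw [cast_even h, zero_pow two_ne_zero]
  · rw [cast_odd (by omega), one_pow]

theorem Fz_zero : Fz 0 = 0 := by
  have h := Fz_smul 0 0
  rw [zero_smul, zero_pow two_ne_zero, zero_smul] at h
  exact h

theorem Fz_inj : Function.Injective Fz := by
  intro u v h
  apply fr_inj
  have h1 := congrArg (aK gz⁻¹) h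
  unfold Fz at h1
  rwa [aK_inv', aK_inv'] at h1

theorem Fz_gi (v : LK) : Fz (aK gi v) = aK gi (Fz v) := by
  unfold Fz
  rw [fr_aK, phi_gi, ← aK_mul, ← aK_mul, gz_gi]

theorem Fz_gj (v : LK) : Fz (aK gj v) = aK gj (Fz v) := by
  unfold Fz
  rw [fr_aK, phi_gj, ← aK_mul, ← aK_mul, gz_gj]

theorem Fz_gz (v : LK) : Fz (aK gz v) = aK gz (Fz v) := by
  unfold Fz
  rw [fr_aK, phi_gz]

/-- `Fz² = fr²` -/
theorem Fz_Fz (v : LK) : Fz (Fz v) = fr (fr v) := by
  unfold Fz
  rw [fr_aK, phi_gz, ← aK_mul, gz_gz, aK_one]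

/-- **the frame and the Frobenius map** -/
theorem frobz {z : ↥(chevE8.group KK)} (hz : z⁻¹ * phi chevE8 KK 2 1 z = gz) (v : LK) :
    aK z⁻¹ (fr v) = Fz (aK z⁻¹ v) := by
  unfold Fz
  rw [fr_aK, ← aK_mul, map_inv, ← hz]
  congr 1
  group

/-! ### the torus elements -/

theorem aK_t3 {t : ↥(chevE8.group KK)} {ω : KK} (ht : t ∈ TT chevE8 KK) (hω : IsPrimitiveRoot ω 3) {V : Fin 8 → ZMod 3}
    (hv : ∀ i, cX e8T t (sr i) = ω ^ (V i).val) {s : ℕ} (hs : s < 240) :
    aK t (er s) = ω ^ (∑ i : Fin 8, V i * ((rt chevE8 s i : ℤ) : ZMod 3)).val • er s := by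
  have hs' : s < chevE8.nroots := by rw [nr]; exact hs
  have h1 := cX_eq_zpow ht (hω.ne_zero (by norm_num)) hv (vec chevE8 8 s)
  have h2 : ω ^ vl V (vec chevE8 8 s) = ω ^ (∑ i : Fin 8, V i * ((rt chevE8 s i : ℤ) : ZMod 3)).val := by
    have h3 : ((vl V (vec chevE8 8 s) : ℤ) : ZMod 3) = ∑ i : Fin 8, V i * ((rt chevE8 s i : ℤ) : ZMod 3) := by
      unfold vl
      push_cast
      refine Finset.sum_congr rfl fun i _ => ?_
      rw [ZMod.natCast_zmod_val, mul_comm]
      rfl
    rw [← h3, zpow_val hω]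
  funext i
  rw [aK_tor ht, Pi.smul_apply, smul_eq_mul, er_of hs']
  by_cases h : i = Sum.inr ⟨s, hs'⟩
  · rw [h, Pi.single_eq_same, mul_one, mul_one, ← h2, ← h1]
    rfl
  · rw [Pi.single_eq_of_ne h, mul_zero, mul_zero]

/-- **the weights of the first generator** -/
theorem aK_t1 {t : ↥(chevE8.group KK)} {ω : KK} (ht : t ∈ TT chevE8 KK) (hω : IsPrimitiveRoot ω 3)
    (hv : ∀ i, cX e8T t (sr i) = ω ^ (V1 i).val) {s : ℕ} (hs : s < 240) : aK t (er s) = ω ^ (w1 s).val • er s :=
  aK_t3 ht hω hv hs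

/-- **the weights of the second generator** -/
theorem aK_t2 {t : ↥(chevE8.group KK)} {ω : KK} (ht : t ∈ TT chevE8 KK) (hω : IsPrimitiveRoot ω 3)
    (hv : ∀ i, cX e8T t (sr i) = ω ^ (V2 i).val) {s : ℕ} (hs : s < 240) : aK t (er s) = ω ^ (w2 s).val • er s :=
  aK_t3 ht hω hv hs

end Cfsg.Agent.H201.L34
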