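import Cfsg.Agent.H413.L16.Frame
import Cfsg.Agent.H201.L34.Ops

/-!
# S5917 (`L₃(4)` in `E₈(2)`): the restricted square of the Lie algebra of `E₈` in characteristic two (helper201)

* `br_er_er` : `(ad e_r)² = 0`;
* `sq x` : the element with `ad (sq x) = (ad x)²` (`br_sq`, `sq_unique`);
* `sq_add`, `sq_smul`, `sq_er`, `sq_hv`, `sq_hr`, `sq_add_comm`, `sq_sum`;
* `aK_sq`, `fr_sq`, `Fz_sq` : it is compatible with the group, the Frobenius map.
-/

set_option autoImplicit false
set_option linter.unusedSectionVars false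
set_option maxRecDepth 100000

namespace Cfsg.Agent.H201.L34

open Cfsg Cfsg.Lie Cfsg.Lie.ChevalleyDatum
open Cfsg.Agent.ChevalleyStructure.Columns (car cor)
open Cfsg.Agent.H939.L64
open Cfsg.Agent.H413.L64
open Cfsg.Agent.H413.L16
open Cfsg.Agent.H876.L64

theorem br_add_l (u v w : LK) : brK (u + v) w = brK u w + brK v w := Cfsg.Agent.H971.RV.br_add_left u v w

theorem br_add_r (u v w : LK) : brK u (v + w) = brK u v + brK u w := Cfsg.Agent.H971.RV.br_add_right u v w

theorem br_smul_l (c : KK) (v w : LK) : brK (c • v) w = c • brK v w := Cfsg.Agent.H971.RV.br_smul_left c v w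

theorem br_smul_r (c : KK) (v w : LK) : brK v (c • w) = c • brK v w := Cfsg.Agent.H971.RV.br_smul_right c v w

theorem br_zero_l (w : LK) : brK 0 w = 0 := by
  have h := br_smul_l 0 0 w
  rwa [zero_smul, zero_smul] at h

theorem br_zero_r (w : LK) : brK w 0 = 0 := by
  have h := br_smul_r 0 w 0
  rwa [zero_smul, zero_smul] at h

theorem eq_of_add_zero {u v : LK} (h : u + v = 0) : u = v := by
  have h1 : u + v + v = v := by rw [h, zero_add]
  rwa [add_assoc, add_self', add_zero] at h1

theorem br_self (v : LK) : ∀ w, brK (brK v v) w = 0 := by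
  intro w
  have h := jac v v w
  exact add_eq_right.1 h.symm

/-- `[v, v] = 0` -/
theorem br_self' (v : LK) : brK v v = 0 := ad_inj (br_self v)

theorem exists_om : ∃ ω : KK, ω ≠ 0 ∧ ω ≠ 1 := by
  classical
  obtain ⟨x, hx⟩ := Infinite.exists_notMem_finset ({0, 1} : Finset KK)
  exact ⟨x, fun h => hx (by simp [h]), fun h => hx (by simp [h])⟩

theorem f_er {r : ℕ} (hr : r < 240) : er r (Sum.inr (⟨239 - r, by rw [nr]; omega⟩ : Fin chevE8.nroots)) = 0 := by
  rw [er_inr, if_neg]
  show ¬ r = 239 - r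
  omega

/-- **`(ad e_r)² = 0`** -/
theorem br_er_er {r : ℕ} (hr : r < 240) (v : LK) : brK (er r) (brK (er r) v) = 0 := by
  have hb : brK (er r) (er r) = 0 := br_self' _
  obtain ⟨n, hn⟩ : ∃ n : Fin chevE8.nroots, n = ⟨239 - r, by rw [nr]; omega⟩ := ⟨_, rfl⟩
  have hx : ∀ (c : KK) (w : LK), aK (xr r c) w = w + c • brK (er r) w + (c ^ 2 * w (Sum.inr n)) • er r := by
    intro c w
    rw [aK_xr hr, hn]
  have hf : er r (Sum.inr n) = 0 := by rw [hn]; exact f_er hr
  have key : ∀ a : KK, a • brK (er r) (brK (er r) v) + (a ^ 2 * brK (er r) v (Sum.inr n)) • er r = 0 := by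
    intro a
    have h1 : aK (xr r a) (aK (xr r 1) v) = aK (xr r (a + 1)) v := by rw [← aK_mul, xr_add hr]
    rw [hx 1 v, hx (a + 1) v, hx a] at h1
    simp only [br_add_r, br_smul_r, hb, smul_zero, add_zero, Pi.add_apply, Pi.smul_apply, smul_eq_mul, hf, mul_zero,
      one_smul, one_pow, one_mul] at h1
    have h2 : (a + 1) ^ 2 = a ^ 2 + 1 := by
      have h3 : (a + 1) ^ 2 = a ^ 2 + 1 + 2 * a := by ring
      rw [h3, two_zero, zero_mul, add_zero]
    rw [h2] at h1
    have h4 : (v + brK (er r) v + v (Sum.inr n) • er r + a • (brK (er r) v + brK (er r) (brK (er r) v)) +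
        (a ^ 2 * (v (Sum.inr n) + brK (er r) v (Sum.inr n))) • er r) =
      (v + (a + 1) • brK (er r) v + ((a ^ 2 + 1) * v (Sum.inr n)) • er r) +
        (a • brK (er r) (brK (er r) v) + (a ^ 2 * brK (er r) v (Sum.inr n)) • er r) := by
      module
    rw [h4] at h1
    exact add_eq_left.1 h1
  obtain ⟨ω, h0, h1⟩ := exists_om
  have k1 := key 1
  have k2 := key ω
  rw [one_smul, one_pow, one_mul] at k1
  have k3 : brK (er r) (brK (er r) v) = brK (er r) v (Sum.inr n) • er r := eq_of_add_zero k1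
  rw [k3, smul_smul, ← add_smul] at k2
  have k4 := congrFun k2 (Sum.inr ⟨r, by rw [nr]; exact hr⟩)
  rw [Pi.smul_apply, er_inr, if_pos rfl, smul_eq_mul, mul_one] at k4
  have k5 : ω * (1 + ω) * brK (er r) v (Sum.inr n) = 0 := by
    have : ω * (1 + ω) * brK (er r) v (Sum.inr n) = ω * brK (er r) v (Sum.inr n) + ω ^ 2 * brK (er r) v (Sum.inr n) := by
      ring
    rw [this]
    exact k4
  have k6 : (1 + ω) ≠ 0 := by
    intro h
    apply h1
    have h2 : (1 + ω) + ω = ω := by rw [h, zero_add]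
    have h3 : (1 + ω) + ω = 1 + 2 * ω := by ring
    rw [h3, two_zero, zero_mul, add_zero] at h2
    exact h2.symm
  have k7 : brK (er r) v (Sum.inr n) = 0 := by
    rcases mul_eq_zero.1 k5 with h | h
    · exact absurd h (mul_ne_zero h0 k6)
    · exact h
  rw [k3, k7, zero_smul]

/-- `ad y = (ad x)²` -/
def IsSq (x y : LK) : Prop := ∀ v, brK y v = brK x (brK x v)

theorem IsSq.unique {x y y' : LK} (h : IsSq x y) (h' : IsSq x y') : y = y' := by
  apply eq_of_add_zero
  apply ad_inj
  intro v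
  rw [br_add_l, h v, h' v, add_self']

theorem IsSq.add {x x' y y' : LK} (h : IsSq x y) (h' : IsSq x' y') : IsSq (x + x') (y + y' + brK x x') := by
  intro v
  have e1 : brK (y + y' + brK x x') v = brK x (brK x v) + brK x' (brK x' v) + brK (brK x x') v := by
    rw [br_add_l, br_add_l, h v, h' v]
  have e2 : brK (x + x') (brK (x + x') v) =
      (brK x (brK x v) + brK x (brK x' v)) + (brK x' (brK x v) + brK x' (brK x' v)) := by
    rw [br_add_l x x' v, br_add_l, br_add_r, br_add_r]
  rw [e1, e2, jac x x' v]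
  have e3 : (brK x (brK x v) + (brK (brK x x') v + brK x' (brK x v))) + (brK x' (brK x v) + brK x' (brK x' v)) =
      brK x (brK x v) + brK x' (brK x' v) + brK (brK x x') v + (brK x' (brK x v) + brK x' (brK x v)) := by abel
  rw [e3, add_self', add_zero]

theorem IsSq.smul {x y : LK} (h : IsSq x y) (c : KK) : IsSq (c • x) (c ^ 2 • y) := by
  intro v
  rw [br_smul_l, br_smul_l c x, br_smul_l, br_smul_r, smul_smul, h v, pow_two]

theorem isSq_zero : IsSq 0 0 := fun v => by rw [br_zero_l, br_zero_l]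

theorem isSq_er (s : ℕ) : IsSq (er s) 0 := by
  by_cases h : s < 240
  · intro v
    rw [br_zero_l, br_er_er h]
  · rw [er_ge (by omega)]
    exact isSq_zero

theorem cast_sq (a : ℤ) : ((a : KK)) ^ 2 = (a : KK) := by
  rcases Int.emod_two_eq_zero_or_one a with h | h
  · rw [cast_even h, zero_pow two_ne_zero]
  · rw [cast_odd (by omega), one_pow]

theorem isSq_hv (c : Fin chevE8.rank → KK) : IsSq (hv c) (hv fun i => c i ^ 2) := by
  have hch := charKK
  intro v
  unfold hv
  rw [h_br, h_br, h_br]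
  funext a
  rcases a with a | a
  · rfl
  · show (∑ i, c i ^ 2 * ((car chevE8 i a : ℤ) : KK)) * v (Sum.inr a) =
      (∑ i, c i * ((car chevE8 i a : ℤ) : KK)) * ((∑ i, c i * ((car chevE8 i a : ℤ) : KK)) * v (Sum.inr a))
    rw [← mul_assoc, ← pow_two]
    congr 1
    have h1 := map_sum (frobenius KK 2) (fun i => c i * ((car chevE8 i a : ℤ) : KK)) Finset.univ
    rw [frobenius_def] at h1
    rw [h1]
    refine Finset.sum_congr rfl fun i _ => ?_
    rw [frobenius_def, mul_pow, cast_sq]

theorem exists_isSq (x : LK) : ∃ y, IsSq x y := by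
  have h1 : x = ∑ k, x k • (Pi.single k 1 : LK) := by
    funext a
    rw [Finset.sum_apply, Finset.sum_eq_single a]
    · rw [Pi.smul_apply, Pi.single_eq_same, smul_eq_mul, mul_one]
    · intro b _ hb
      rw [Pi.smul_apply, Pi.single_eq_of_ne hb.symm, smul_zero]
    · intro h; exact absurd (Finset.mem_univ _) h
  rw [h1]
  refine Finset.sum_induction _ (fun x => ∃ y, IsSq x y) ?_ ⟨0, isSq_zero⟩ ?_
  · rintro a b ⟨y, hy⟩ ⟨y', hy'⟩
    exact ⟨_, hy.add hy'⟩
  · intro k _
    rw [single_eq]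
    rcases k with i | s
    · exact ⟨_, (isSq_hv _).smul _⟩
    · exact ⟨_, (isSq_er _).smul _⟩

/-- **the restricted square** -/
noncomputable def sq (x : LK) : LK := (exists_isSq x).choose

theorem isSq_sq (x : LK) : IsSq x (sq x) := (exists_isSq x).choose_spec

/-- **`ad (sq x) = (ad x)²`** -/
theorem br_sq (x v : LK) : brK (sq x) v = brK x (brK x v) := isSq_sq x v

theorem sq_unique {x y : LK} (h : ∀ v, brK y v = brK x (brK x v)) : sq x = y := (isSq_sq x).unique h

theorem sq_add (x y : LK) : sq (x + y) = sq x + sq y + brK x y := sq_unique ((isSq_sq x).add (isSq_sq y))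

theorem sq_smul (c : KK) (x : LK) : sq (c • x) = c ^ 2 • sq x := sq_unique ((isSq_sq x).smul c)

theorem sq_zero : sq 0 = 0 := sq_unique isSq_zero

theorem sq_er (s : ℕ) : sq (er s) = 0 := sq_unique (isSq_er s)

theorem sq_hv (c : Fin chevE8.rank → KK) : sq (hv c) = hv fun i => c i ^ 2 := sq_unique (isSq_hv c)

theorem sq_hr (r : ℕ) : sq (hr r) = hr r := by
  unfold hr
  rw [sq_hv]
  congr 1
  funext i
  exact cast_sq _

/-- commuting elements -/
theorem sq_add_comm {x y : LK} (h : brK x y = 0) : sq (x + y) = sq x + sq y := by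
  rw [sq_add, h, add_zero]

/-- `[x, x²] = 0` -/
theorem br_x_sq (x : LK) : brK x (sq x) = 0 := by
  rw [br_comm, br_sq, br_self', br_zero_r]

/-- if `x` commutes with `y`, so does `x²` -/
theorem br_sq_of_comm {x y : LK} (h : brK x y = 0) : brK (sq x) y = 0 := by
  rw [br_sq, h, br_zero_r]

/-- the square of a sum of pairwise commuting elements -/
theorem sq_sum {ι : Type*} (s : Finset ι) (f : ι → LK) (h : ∀ i ∈ s, ∀ j ∈ s, brK (f i) (f j) = 0) :
    sq (∑ i ∈ s, f i) = ∑ i ∈ s, sq (f i) := by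
  classical
  induction s using Finset.induction_on with
  | empty => exact sq_zero
  | insert a s ha ih =>
    rw [Finset.sum_insert ha, Finset.sum_insert ha, sq_add, ih fun i hi j hj =>
      h i (Finset.mem_insert_of_mem hi) j (Finset.mem_insert_of_mem hj)]
    have h1 : brK (f a) (∑ i ∈ s, f i) = 0 := by
      have h2 : brM (f a) (∑ i ∈ s, f i) = ∑ i ∈ s, brM (f a) (f i) := map_sum _ _ _
      have h3 : brM (f a) (∑ i ∈ s, f i) = brK (f a) (∑ i ∈ s, f i) := rfl
      rw [← h3, h2]
      exact Finset.sum_eq_zero fun i hi => h a (Finset.mem_insert_self _ _) i (Finset.mem_insert_of_mem hi)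
    rw [h1, add_zero]

/-- **compatibility with the group** -/
theorem aK_sq (g : ↥(chevE8.group KK)) (x : LK) : aK g (sq x) = sq (aK g x) := by
  refine (sq_unique fun v => ?_).symm
  have h1 := congrArg (aK g) (br_sq x (aK g⁻¹ v))
  rwa [aK_brK, aK_brK, aK_brK, aK_inv] at h1

theorem fr_surj (v : LK) : ∃ u, fr u = v := by
  choose f hf using fun i => IsAlgClosed.exists_pow_nat_eq (v i) (n := 2) (by norm_num)
  exact ⟨f, funext hf⟩

/-- **compatibility with the Frobenius map** -/
theorem fr_sq (x : LK) : fr (sq x) = sq (fr x) := by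
  refine (sq_unique fun v => ?_).symm
  obtain ⟨u, rfl⟩ := fr_surj v
  rw [← fr_br, br_sq, fr_br, fr_br]

theorem Fz_sq (x : LK) : Fz (sq x) = sq (Fz x) := by
  unfold Fz
  rw [fr_sq, aK_sq]

end Cfsg.Agent.H201.L34
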