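import Cfsg.Agent.H201.L34.TorB

/-!
# S5917: nine commuting elements permuted like the basis of the hermitian matrices are nilpotent (helper201)
-/

set_option autoImplicit false
set_option linter.unusedSectionVars false
set_option maxRecDepth 100000

namespace Cfsg.Agent.H201.L34

open Cfsg Cfsg.Lie Cfsg.Lie.ChevalleyDatum
open Cfsg.Agent.H939.L64
open Cfsg.Agent.H413.L64
open Cfsg.Agent.H413.L16
open Cfsg.Agent.H876.L64
open Module (End finrank)

variable {e : Fin 9 → LK} {r : ℕ → ↥(chevE8.group KK)}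

/-- a functional of a weight -/
noncomputable def fc (f : Module.Dual (ZMod 2) KK) (c : Fin 9 → KK) : Fin 9 → ZMod 2 := fun i => f (c i)

theorem fc_add (f : Module.Dual (ZMod 2) KK) (c c' : Fin 9 → KK) : fc f (c + c') = fc f c + fc f c' :=
  funext fun i => map_add f (c i) (c' i)

theorem fc_add' (f g : Module.Dual (ZMod 2) KK) (c : Fin 9 → KK) : fc (f + g) c = fc f c + fc g c := rfl

theorem fc_mtv (f : Module.Dual (ZMod 2) KK) (k : ℕ) (c : Fin 9 → KK) : fc f (mtv k c) = mtv k (fc f c) := by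
  funext i
  show f (∑ j : Fin 9, if ((Cfsg.Agent.H288.L34.M k).getD i 0).testBit j then c j else 0) =
    ∑ j : Fin 9, if ((Cfsg.Agent.H288.L34.M k).getD i 0).testBit j then f (c j) else 0
  rw [map_sum]
  refine Finset.sum_congr rfl fun j _ => ?_
  split_ifs
  · rfl
  · exact map_zero f

theorem exists_fc {c : Fin 9 → KK} (hc : c ≠ 0) : ∃ f, fc f c ≠ 0 := by
  obtain ⟨i, hi⟩ := Function.ne_iff.1 hc
  by_contra h
  push Not at h
  apply hi
  have h1 := (Module.forall_dual_apply_eq_zero_iff (ZMod 2) (c i)).1 fun f => congrFun (h f) i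
  exact h1

/-- the masks of the weights -/
def Cf (e : Fin 9 → LK) (f : Module.Dual (ZMod 2) KK) (n : ℕ) : Prop := ∃ c, W e c ≠ ⊥ ∧ fc f c = dec9 n

theorem Nine.Cf_step (h : Nine e r) (f : Module.Dual (ZMod 2) KK) : ∀ k ∈ [0, 1, 4], ∀ n < 512, Cf e f n → Cf e f (mt k n) := by
  rintro k hk n hn ⟨c, hc, hf⟩
  exact ⟨mtv k c, h.step_ne hk hc, by rw [fc_mtv, hf, mtv_dec9 hk hn]⟩

/-- no long orbits -/
theorem Nine.no_long (h : Nine e r) (f : Module.Dual (ZMod 2) KK) {m : ℕ} (hm : m = 2 ∨ m = 24) {n : ℕ} (hn : n < 512)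
    (hr : rt n = m) (hC : Cf e f n) : False := by
  classical
  have h1 : ∀ n' < 512, rt n' = m → Cf e f n' := fun n' hn' hr' => by
    rw [mem_iff_rt (h.Cf_step f) hn', hr', ← hr, ← mem_iff_rt (h.Cf_step f) hn]
    exact hC
  have h2 : ∃ S : Finset ℕ, (∀ n' ∈ S, n' < 512 ∧ rt n' = m) ∧ 125 ≤ S.card := by
    have h3 : ∀ l : List ℕ, l.Nodup → l.toFinset.card = l.length := fun l hl => List.toFinset_card_of_nodup hl
    rcases hm with rfl | rfl
    · refine ⟨((List.range 512).filter fun n => rt n == 2).toFinset, fun n' hn' => ?_, ?_⟩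
      · rw [List.mem_toFinset, List.mem_filter, beq_iff_eq] at hn'
        exact ⟨List.mem_range.1 hn'.1, hn'.2⟩
      · rw [h3 _ (List.nodup_range.filter _), card_two]
        norm_num
    · refine ⟨((List.range 512).filter fun n => rt n == 24).toFinset, fun n' hn' => ?_, ?_⟩
      · rw [List.mem_toFinset, List.mem_filter, beq_iff_eq] at hn'
        exact ⟨List.mem_range.1 hn'.1, hn'.2⟩
      · rw [h3 _ (List.nodup_range.filter _), card_three]
        norm_num
  obtain ⟨S, hS, hcard⟩ := h2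
  have h4 : ∀ n' : {x // x ∈ S}, ∃ c, W e c ≠ ⊥ ∧ fc f c = dec9 n' := fun n' =>
    h1 n' (hS n' n'.2).1 (hS n' n'.2).2
  choose c hc hfc using h4
  have hinj : Function.Injective c := by
    intro a b hab
    apply Subtype.ext
    apply dec9_inj (hS a a.2).1 (hS b b.2).1
    rw [← hfc a, ← hfc b, hab]
  have h5 := h.sum_le (Finset.univ.image c)
  rw [Finset.sum_image fun a _ b _ hab => hinj hab] at h5
  have h6 : ∑ _n : {x // x ∈ S}, 2 ≤ ∑ n : {x // x ∈ S}, finrank KK (W e (c n)) :=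
    Finset.sum_le_sum fun n _ => h.two_le (hc n)
  rw [Finset.sum_const, Finset.card_univ, Fintype.card_coe, smul_eq_mul] at h6
  omega

/-- the functionals of a weight are points or zero -/
theorem Nine.point (h : Nine e r) {c : Fin 9 → KK} (hc : W e c ≠ ⊥) (f : Module.Dual (ZMod 2) KK) :
    fc f c = 0 ∨ ∃ n ∈ pts, fc f c = dec9 n := by
  obtain ⟨n, hn, hd⟩ := exists_mask (fc f c)
  rcases rt_mem hn with ⟨-, h1⟩ | ⟨-, h1⟩ | h1 | h1
  · left
    rw [← hd, h1, dec9_zero]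
  · exact Or.inr ⟨n, h1, hd.symm⟩
  · exact (h.no_long f (Or.inl rfl) hn h1 ⟨c, hc, hd.symm⟩).elim
  · exact (h.no_long f (Or.inr rfl) hn h1 ⟨c, hc, hd.symm⟩).elim

theorem Nine.not_sum (h : Nine e r) {c : Fin 9 → KK} (f : Module.Dual (ZMod 2) KK) {m n : ℕ} (hm : m ∈ pts) (hn : n ∈ pts)
    (hmn : m ≠ n) (hf : fc f c = dec9 m + dec9 n) : W e c = ⊥ := by
  by_contra hc
  have h1 := pts_add hm hn hmn
  have h2 : m ^^^ n < 512 := Nat.xor_lt_two_pow (n := 9) (pts_rt hm).2 (pts_rt hn).2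
  exact h.no_long f (Or.inl rfl) h2 h1 ⟨c, hc, by rw [hf, dec9_xor]⟩

theorem dec9_ne_zero {n : ℕ} (hn : n ∈ pts) : dec9 n ≠ 0 := by
  intro h
  rw [← dec9_zero] at h
  have h1 := dec9_inj (pts_rt hn).2 (by norm_num) h
  have h2 := pts_rt hn
  rw [h1] at h2
  exact absurd h2.1 (by decide +kernel)

/-- a weight at the point `m` -/
def Pt (m : ℕ) (c : Fin 9 → KK) : Prop := ∃ f, fc f c = dec9 m

theorem Nine.pt_all (h : Nine e r) {c : Fin 9 → KK} (hc : W e c ≠ ⊥) {m : ℕ} (hm : m ∈ pts) (hp : Pt m c)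
    (g : Module.Dual (ZMod 2) KK) : fc g c = 0 ∨ fc g c = dec9 m := by
  obtain ⟨f, hf⟩ := hp
  rcases h.point hc g with h1 | ⟨n, hn, h1⟩
  · exact Or.inl h1
  · right
    by_cases hmn : m = n
    · rw [hmn]; exact h1
    · exact absurd (h.not_sum (f + g) hm hn hmn (by rw [fc_add', hf, h1])) hc

theorem Nine.exists_pt (h : Nine e r) {c : Fin 9 → KK} (hc : W e c ≠ ⊥) (h0 : c ≠ 0) : ∃ m ∈ pts, Pt m c := by
  obtain ⟨f, hf⟩ := exists_fc h0
  rcases h.point hc f with h1 | ⟨n, hn, h1⟩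
  · exact absurd h1 hf
  · exact ⟨n, hn, f, h1⟩

/-- weights at different points -/
theorem Nine.sum_bot (h : Nine e r) {c c' : Fin 9 → KK} (hc : W e c ≠ ⊥) (hc' : W e c' ≠ ⊥) {m n : ℕ} (hm : m ∈ pts)
    (hn : n ∈ pts) (hmn : m ≠ n) (hp : Pt m c) (hp' : Pt n c') : W e (c + c') = ⊥ := by
  obtain ⟨f, hf⟩ := id hp
  obtain ⟨g, hg⟩ := id hp'
  rcases h.pt_all hc' hn hp' f with h1 | h1
  · rcases h.pt_all hc hm hp g with h2 | h2
    · exact h.not_sum (f + g) hm hn hmn (by rw [fc_add, fc_add', fc_add', hf, hg, h1, h2, add_zero, zero_add])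
    · exact h.not_sum g hm hn hmn (by rw [fc_add, hg, h2])
  · exact h.not_sum f hm hn hmn (by rw [fc_add, hf, h1])

/-! ### brackets -/

theorem br_aux (x : LK) (a b : KK) : ∀ (N n m : ℕ) (u v : LK), n + m ≤ N → ((adE x - a • 1) ^ n) u = 0 →
    ((adE x - b • 1) ^ m) v = 0 → ((adE x - (a + b) • 1) ^ N) (brK u v) = 0 := by
  intro N
  induction N with
  | zero =>
    intro n m u v h hu hv
    have : n = 0 := by omega
    subst this
    have hu' : u = 0 := hu
    rw [hu', br_zero_l, map_zero]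
  | succ N ih =>
    intro n m u v h hu hv
    rcases n with _ | n
    · have hu' : u = 0 := hu
      rw [hu', br_zero_l, map_zero]
    rcases m with _ | m
    · have hv' : v = 0 := hv
      rw [hv', br_zero_r, map_zero]
    rw [pow_succ] at hu hv
    have h1 := ih n (m + 1) (brK x u - a • u) v (by omega) hu (by rw [pow_succ]; exact hv)
    have h2 := ih (n + 1) m u (brK x v - b • v) (by omega) (by rw [pow_succ]; exact hu) hv
    have e1 : (adE x - (a + b) • 1) (brK u v) = brK (brK x u - a • u) v + brK u (brK x v - b • v) := by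
      show brK x (brK u v) - (a + b) • brK u v = _
      rw [jac x u v, sub_eq_add_neg, sub_eq_add_neg, sub_eq_add_neg, ← neg_smul, ← neg_smul, ← neg_smul, br_add_l, br_add_r,
        br_smul_l, br_smul_r]
      module
    rw [pow_succ]
    show ((adE x - (a + b) • 1) ^ N) ((adE x - (a + b) • 1) (brK u v)) = 0
    rw [e1, map_add, h1, h2, add_zero]

theorem br_mem_W {c c' : Fin 9 → KK} {u v : LK} (hu : u ∈ W e c) (hv : v ∈ W e c') : brK u v ∈ W e (c + c') := by
  rw [mem_W]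
  intro i
  obtain ⟨n, hn⟩ := mem_W.1 hu i
  obtain ⟨m, hm⟩ := mem_W.1 hv i
  exact ⟨n + m, br_aux (e i) (c i) (c' i) (n + m) n m u v le_rfl hn hm⟩

/-- the sum of the weight spaces at a point -/
noncomputable def JJ (e : Fin 9 → LK) (m : ℕ) : Submodule KK LK := ⨆ c : {c : Fin 9 → KK // Pt m c}, W e c

/-- the brackets -/
noncomputable def DJ (e : Fin 9 → LK) (m : ℕ) : Submodule KK LK :=
  Submodule.span KK {v | ∃ a ∈ JJ e m, ∃ b ∈ JJ e m, v = brK a b}

theorem mem_JJ {m : ℕ} {c : Fin 9 → KK} (hp : Pt m c) {v : LK} (hv : v ∈ W e c) : v ∈ JJ e m :=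
  (le_iSup (fun c : {c : Fin 9 → KK // Pt m c} => W e c) ⟨c, hp⟩) hv

theorem JJ_induction {m : ℕ} {P : LK → Prop} {v : LK} (hv : v ∈ JJ e m) (h0 : P 0) (ha : ∀ x y, P x → P y → P (x + y))
    (hw : ∀ c, Pt m c → ∀ x ∈ W e c, P x) : P v :=
  Submodule.iSup_induction (fun c : {c : Fin 9 → KK // Pt m c} => W e c) (motive := P) hv (fun c x hx => hw c c.2 x hx) h0 ha

/-- brackets of different points -/
theorem Nine.br_pts (h : Nine e r) {m n : ℕ} (hm : m ∈ pts) (hn : n ∈ pts) (hmn : m ≠ n) {u v : LK} (hu : u ∈ JJ e m)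
    (hv : v ∈ JJ e n) : brK u v = 0 := by
  refine JJ_induction (P := fun u => brK u v = 0) hu (br_zero_l v) (fun x y hx hy => by rw [br_add_l, hx, hy, add_zero]) ?_
  intro c hc x hx
  refine JJ_induction (P := fun v => brK x v = 0) hv (br_zero_r x) (fun a b ha hb => by rw [br_add_r, ha, hb, add_zero]) ?_
  intro c' hc' y hy
  by_cases hx0 : x = 0
  · rw [hx0, br_zero_l]
  by_cases hy0 : y = 0
  · rw [hy0, br_zero_r]
  have h1 : W e c ≠ ⊥ := fun h1 => hx0 (by rw [h1] at hx; exact hx)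
  have h2 : W e c' ≠ ⊥ := fun h1 => hy0 (by rw [h1] at hy; exact hy)
  have h3 := br_mem_W hx hy
  rw [h.sum_bot h1 h2 hm hn hmn hc hc'] at h3
  exact h3

theorem br_JJ_zero {m : ℕ} {x v : LK} (hx : x ∈ W e 0) (hv : v ∈ JJ e m) : brK x v ∈ JJ e m := by
  refine JJ_induction (P := fun v => brK x v ∈ JJ e m) hv (by rw [br_zero_r]; exact Submodule.zero_mem _)
    (fun a b ha hb => by rw [br_add_r]; exact Submodule.add_mem _ ha hb) ?_
  intro c hc y hy
  have h1 := br_mem_W hx hy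
  rw [zero_add] at h1
  exact mem_JJ hc h1

theorem br_DJ {m : ℕ} {a b : LK} (ha : a ∈ JJ e m) (hb : b ∈ JJ e m) : brK a b ∈ DJ e m :=
  Submodule.subset_span ⟨a, ha, b, hb, rfl⟩

/-- the bracket of two elements of `JJ` lies in `W 0 + JJ` -/
theorem Nine.br_JJ (h : Nine e r) {m : ℕ} (hm : m ∈ pts) {a b : LK} (ha : a ∈ JJ e m) (hb : b ∈ JJ e m) :
    brK a b ∈ W e 0 ⊔ JJ e m := by
  refine JJ_induction (P := fun a => brK a b ∈ W e 0 ⊔ JJ e m) ha (by rw [br_zero_l]; exact Submodule.zero_mem _)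
    (fun x y hx hy => by rw [br_add_l]; exact Submodule.add_mem _ hx hy) ?_
  intro c hc x hx
  refine JJ_induction (P := fun b => brK x b ∈ W e 0 ⊔ JJ e m) hb (by rw [br_zero_r]; exact Submodule.zero_mem _)
    (fun x y hx hy => by rw [br_add_r]; exact Submodule.add_mem _ hx hy) ?_
  intro c' hc' y hy
  have h1 := br_mem_W hx hy
  by_cases hx0 : x = 0
  · rw [hx0, br_zero_l]; exact Submodule.zero_mem _
  by_cases hy0 : y = 0
  · rw [hy0, br_zero_r]; exact Submodule.zero_mem _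
  have hW : W e c ≠ ⊥ := fun h1 => hx0 (by rw [h1] at hx; exact hx)
  have hW' : W e c' ≠ ⊥ := fun h1 => hy0 (by rw [h1] at hy; exact hy)
  by_cases h2 : W e (c + c') = ⊥
  · rw [h2] at h1
    rw [(Submodule.mem_bot KK).1 h1]
    exact Submodule.zero_mem _
  by_cases h0 : c + c' = 0
  · rw [h0] at h1
    exact Submodule.mem_sup_left h1
  · apply Submodule.mem_sup_right
    obtain ⟨n, hn, f, hf⟩ := h.exists_pt h2 h0
    refine mem_JJ ⟨f, ?_⟩ h1
    have hf' := hf
    rw [fc_add] at hf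
    rcases h.pt_all hW hm hc f with h3 | h3 <;> rcases h.pt_all hW' hm hc' f with h4 | h4
    · rw [h3, h4, add_zero] at hf
      exact absurd hf.symm (dec9_ne_zero hn)
    · rw [h3, h4, zero_add] at hf
      rw [hf', ← hf]
    · rw [h3, h4, add_zero] at hf
      rw [hf', ← hf]
    · rw [h3, h4] at hf
      have h5 : dec9 m + dec9 m = 0 := by
        rw [← dec9_xor, Nat.xor_self, dec9_zero]
      rw [h5] at hf
      exact absurd hf.symm (dec9_ne_zero hn)

/-- **the ideal** -/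
theorem Nine.ideal (h : Nine e r) {m : ℕ} (hm : m ∈ pts) (x w : LK) (hw : w ∈ JJ e m ⊔ DJ e m) :
    brK x w ∈ JJ e m ⊔ DJ e m := by
  have hx : x ∈ ⨆ c, W e c := by rw [h.iSup_W]; exact Submodule.mem_top
  refine Submodule.iSup_induction (W e) (motive := fun x => brK x w ∈ JJ e m ⊔ DJ e m) hx ?_
    (by rw [br_zero_l]; exact Submodule.zero_mem _) (fun x y hx hy => by rw [br_add_l]; exact Submodule.add_mem _ hx hy)
  intro c x hx
  by_cases hx0 : x = 0
  · rw [hx0, br_zero_l]; exact Submodule.zero_mem _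
  have hW : W e c ≠ ⊥ := fun h1 => hx0 (by rw [h1] at hx; exact hx)
  -- reduction to two statements
  suffices hs : (∀ v ∈ JJ e m, brK x v ∈ JJ e m ⊔ DJ e m) ∧ ∀ a ∈ JJ e m, ∀ b ∈ JJ e m, brK x (brK a b) ∈ JJ e m ⊔ DJ e m by
    obtain ⟨y, hy, z, hz, rfl⟩ := Submodule.mem_sup.1 hw
    rw [br_add_r]
    refine Submodule.add_mem _ (hs.1 y hy) ?_
    refine Submodule.span_induction (p := fun z _ => brK x z ∈ JJ e m ⊔ DJ e m) ?_ ?_ ?_ ?_ hz
    · rintro v ⟨a, ha, b, hb, rfl⟩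
      exact hs.2 a ha b hb
    · rw [br_zero_r]; exact Submodule.zero_mem _
    · intro u v _ _ hu hv
      rw [br_add_r]; exact Submodule.add_mem _ hu hv
    · intro t u _ hu
      rw [br_smul_r]; exact Submodule.smul_mem _ _ hu
  by_cases h0 : c = 0
  · subst h0
    refine ⟨fun v hv => Submodule.mem_sup_left (br_JJ_zero hx hv), fun a ha b hb => Submodule.mem_sup_right ?_⟩
    rw [jac]
    exact Submodule.add_mem _ (br_DJ (br_JJ_zero hx ha) hb) (br_DJ ha (br_JJ_zero hx hb))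
  obtain ⟨n, hn, hp⟩ := h.exists_pt hW h0
  have hxn := mem_JJ hp hx
  by_cases hmn : n = m
  · subst hmn
    refine ⟨fun v hv => Submodule.mem_sup_right (br_DJ hxn hv), fun a ha b hb => ?_⟩
    obtain ⟨y, hy, z, hz, hyz⟩ := Submodule.mem_sup.1 (h.br_JJ hn ha hb)
    rw [← hyz, br_add_r]
    refine Submodule.add_mem _ (Submodule.mem_sup_left ?_) (Submodule.mem_sup_right (br_DJ hxn hz))
    rw [br_comm]
    exact br_JJ_zero hy hxn
  · refine ⟨fun v hv => ?_, fun a ha b hb => ?_⟩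
    · rw [h.br_pts hn hm hmn hxn hv]
      exact Submodule.zero_mem _
    · rw [jac, h.br_pts hn hm hmn hxn ha, h.br_pts hn hm hmn hxn hb, br_zero_l, br_zero_r, add_zero]
      exact Submodule.zero_mem _

/-- **all weights are zero** -/
theorem Nine.weight_zero (h : Nine e r) {c : Fin 9 → KK} (hc : W e c ≠ ⊥) : c = 0 := by
  by_contra h0
  obtain ⟨f, hf⟩ := exists_fc h0
  rcases h.point hc f with h1 | ⟨m, hm, h1⟩
  · exact hf h1
  have hI : JJ e m ⊔ DJ e m = ⊤ := by
    apply ideal_top (fun x w hw => h.ideal hm x w hw)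
    intro h2
    apply hc
    rw [eq_bot_iff]
    intro v hv
    rw [← h2]
    exact Submodule.mem_sup_left (mem_JJ ⟨f, h1⟩ hv)
  -- another point
  obtain ⟨n, hn, hmn⟩ : ∃ n ∈ pts, m ≠ n := by
    by_cases h2 : m = 1
    · exact ⟨8, by decide +kernel, by omega⟩
    · exact ⟨1, by decide +kernel, h2⟩
  have h2 : Cf e f n := by
    rw [mem_iff_rt (h.Cf_step f) (pts_rt hn).2, (pts_rt hn).1, ← (pts_rt hm).1, ← mem_iff_rt (h.Cf_step f) (pts_rt hm).2]
    exact ⟨c, hc, h1⟩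
  obtain ⟨c', hc', hf'⟩ := h2
  obtain ⟨y, hy, hy0⟩ := Submodule.exists_mem_ne_zero_of_ne_bot hc'
  have hyJ : y ∈ JJ e n := mem_JJ ⟨f, hf'⟩ hy
  apply hy0
  apply ad_inj
  intro w
  have hw : w ∈ JJ e m ⊔ DJ e m := by rw [hI]; exact Submodule.mem_top
  obtain ⟨a, ha, b, hb, rfl⟩ := Submodule.mem_sup.1 hw
  rw [br_add_r, h.br_pts hn hm (Ne.symm hmn) hyJ ha, zero_add]
  refine Submodule.span_induction (p := fun z _ => brK y z = 0) ?_ (br_zero_r y) ?_ ?_ hb
  · rintro v ⟨a, ha, b, hb, rfl⟩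
    rw [jac, h.br_pts hn hm (Ne.symm hmn) hyJ ha, h.br_pts hn hm (Ne.symm hmn) hyJ hb, br_zero_l, br_zero_r, add_zero]
  · intro u v _ _ hu hv
    rw [br_add_r, hu, hv, add_zero]
  · intro t u _ hu
    rw [br_smul_r, hu, smul_zero]

theorem Nine.W_zero (h : Nine e r) : W e 0 = ⊤ := by
  rw [eq_top_iff, ← h.iSup_W]
  refine iSup_le fun c => ?_
  by_cases hc : W e c = ⊥
  · rw [hc]; exact bot_le
  · rw [h.weight_zero hc]

/-- **all the operators are nilpotent** -/
theorem Nine.nilp (h : Nine e r) (b : Fin 9 → Bool) : IsNilpotent (adE (∑ j, if b j then e j else 0)) := by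
  rw [Module.End.isNilpotent_iff_of_finite]
  intro v
  have h1 : v ∈ W e 0 := by rw [h.W_zero]; exact Submodule.mem_top
  have h2 := h.mem_sum h1 b
  rw [Module.End.mem_maxGenEigenspace] at h2
  obtain ⟨n, hn⟩ := h2
  refine ⟨n, ?_⟩
  have h3 : (∑ j : Fin 9, if b j then (0 : Fin 9 → KK) j else 0) = 0 := Finset.sum_eq_zero fun j _ => by simp
  rwa [h3, zero_smul, sub_zero] at hn

theorem adE_sq_iter (x : LK) (k : ℕ) : adE (sq^[k] x) = (adE x) ^ (2 ^ k) := by
  induction k with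
  | zero => rw [pow_zero, pow_one]; rfl
  | succ k ih =>
    rw [Function.iterate_succ_apply', pow_succ, pow_mul, ← ih, pow_two]
    exact LinearMap.ext fun v => br_sq _ v

theorem sq_iter_of_nilp {x : LK} (h : IsNilpotent (adE x)) : ∃ k, sq^[k] x = 0 := by
  obtain ⟨n, hn⟩ := h
  refine ⟨n, ad_inj fun v => ?_⟩
  have h1 := adE_sq_iter x n
  have h2 : (adE x) ^ (2 ^ n) = 0 := pow_eq_zero_of_le (Nat.lt_two_pow_self).le hn
  rw [h2] at h1
  exact congrArg (fun T : End KK LK => T v) h1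

/-- **TOR** for nine elements -/
theorem Nine.sq_zero (h : Nine e r) (b : Fin 9 → Bool) : ∃ k, sq^[k] (∑ j, if b j then e j else 0) = 0 :=
  sq_iter_of_nilp (h.nilp b)

end Cfsg.Agent.H201.L34
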